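import Cfsg.Agent.SmallExponentControl.Basic
import Cfsg.Agent.FusAut.Basic

/-!
Small-exponent abelian subgroups control fusion: the automizer of a fully normalized subgroup, given
the statement for larger subgroups and for systems with fewer maps.
-/

set_option autoImplicit false

namespace CfsgLib.SmallExponentControl

open CfsgLib.Fus CfsgLib.FusAut CfsgLib.Fusion.Alperin Cfsg.FusionSystem
open scoped commutatorElement Pointwise

variable {Ω : Type*} [Group Ω] {S : Subgroup Ω} [Finite S] {p : ℕ} [Fact p.Prime]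

/-- Inner automorphisms form a normal subgroup of any automizer. -/
theorem normal_inn {R : Subgroup Ω} (A : Subgroup (MulAut R)) :
    ((Cfsg.Inn R).subgroupOf A).Normal := by
  refine ⟨fun b hb a => ?_⟩
  obtain ⟨r, hr⟩ := hb
  refine ⟨(a : MulAut R) r, MulEquiv.ext fun x => ?_⟩
  show (a : MulAut R) r * x * ((a : MulAut R) r)⁻¹ =
    (a : MulAut R) ((b : MulAut R) ((a : MulAut R)⁻¹ x))
  have hb' : (b : MulAut R) ((a : MulAut R)⁻¹ x) = r * (a : MulAut R)⁻¹ x * r⁻¹ :=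
    (DFunLike.congr_fun hr _).symm
  rw [hb', map_mul, map_mul, map_inv, MulAut.inv_apply, MulEquiv.apply_symm_apply]

/-- The small elements of a critical subgroup of `R ⊓ T`, as a subgroup of `Ω` invariant under
`Aut_F(R)`, on which every `p'`-automorphism that fixes it is trivial. -/
theorem exists_small_detector {q : ℕ} (hq : (p ≠ 2 ∧ q = p) ∨ (p = 2 ∧ q = 4))
    {F E : Cfsg.FusionSystem S} {T : Subgroup Ω} (d : Data p q F E T) {R : Subgroup Ω} (hR : R ≤ S) :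
    ∃ W : Subgroup Ω, W ≤ R ⊓ T ∧ (∀ w ∈ W, w ^ q = 1) ∧
      (∀ a ∈ F.autGroup R, ∀ x : R, (x : Ω) ∈ W → ((a x : R) : Ω) ∈ W) ∧
      ∀ a ∈ F.autGroup R, (orderOf a).Coprime p → (∀ x : R, (x : Ω) ∈ W → a x = x) → a = 1 := by
  have := finite_of_le hR
  set D := R ⊓ T with hD
  have hDR : D ≤ R := inf_le_left
  have := finite_of_le (hDR.trans hR)
  have hDP : IsPGroup p D := d.hS.to_le (hDR.trans hR)
  obtain ⟨C, hC⟩ := PGroup.exists_criticalSubgroup (p := p) hDP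
  have hWmul : ∀ a ∈ C, ∀ b ∈ C, a ^ q = 1 → b ^ q = 1 → (a * b) ^ q = 1 := by
    intro a ha b hb ha1 hb1
    set a' : C := ⟨a, ha⟩
    set b' : C := ⟨b, hb⟩
    have hcl := hC.class_two
    have hcp : ⁅a', b'⁆ ^ p = 1 := by
      rw [← PGroup.commutatorElement_pow_left' hcl, commutatorElement_eq_one_iff_mul_comm]
      exact (Subgroup.mem_center_iff.1 (hC.pow_mem_center a') b').symm
    have hid := PGroup.mul_pow_mul_commutatorElement (PGroup.commute_commutatorElement hcl a' b' a')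
      (PGroup.commute_commutatorElement hcl a' b' b') q
    have ha' : a' ^ q = 1 := Subtype.ext ha1
    have hb' : b' ^ q = 1 := Subtype.ext hb1
    have hchoose : ⁅a', b'⁆ ^ q.choose 2 = 1 := by
      rcases hq with ⟨hp2, hqp⟩ | ⟨hp2, hq4⟩
      · obtain ⟨m, hm⟩ := PGroup.dvd_choose_two_of_odd ((Fact.out : p.Prime).odd_of_ne_two hp2)
        rw [hqp, hm, pow_mul, hcp, one_pow]
      · rw [hq4, show Nat.choose 4 2 = p * 3 by rw [hp2]; rfl, pow_mul, hcp, one_pow]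
    rw [hchoose, ha', hb', mul_one, mul_one] at hid
    exact congrArg Subtype.val hid
  let WD : Subgroup D :=
    { carrier := {x | x ∈ C ∧ x ^ q = 1}
      one_mem' := ⟨one_mem _, one_pow q⟩
      mul_mem' := fun {a b} ha hb => ⟨C.mul_mem ha.1 hb.1, hWmul a ha.1 b hb.1 ha.2 hb.2⟩
      inv_mem' := fun {a} ha => ⟨C.inv_mem ha.1, by rw [inv_pow, ha.2, inv_one]⟩ }
  refine ⟨WD.map D.subtype, Subgroup.map_subtype_le _, ?_, ?_, ?_⟩
  · rintro _ ⟨x, hx, rfl⟩
    exact congrArg Subtype.val hx.2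
  · intro a ha x hx
    obtain ⟨β, hβ⟩ := exists_restrict hDR a fun z hz =>
      ⟨(a z).2, map_mem_of_stronglyClosed d.hT ((mem_autGroup_iff F hR).1 ha) hz.2⟩
    obtain ⟨x', hx', hxx⟩ := hx
    refine ⟨β x', ⟨(Subgroup.characteristic_iff_map_eq.1 hC.characteristic β).le ⟨x', hx'.1, rfl⟩,
      by rw [← map_pow, hx'.2, map_one]⟩, ?_⟩
    have h := hβ 1 x'
    rw [pow_one, pow_one] at h
    show ((β x' : D) : Ω) = _
    rw [h]
    exact congrArg (fun z => ((a z : R) : Ω)) (Subtype.ext hxx)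
  · intro a ha hcop hfix
    obtain ⟨β, hβ⟩ := exists_restrict hDR a fun z hz =>
      ⟨(a z).2, map_mem_of_stronglyClosed d.hT ((mem_autGroup_iff F hR).1 ha) hz.2⟩
    have hβord : (orderOf β).Coprime p := by
      refine hcop.coprime_dvd_left (orderOf_dvd_of_pow_eq_one (MulEquiv.ext fun x => Subtype.ext ?_))
      rw [hβ, pow_orderOf_eq_one]
      rfl
    let σC : MulAut C := (β.subgroupMap C).trans
      (MulEquiv.subgroupCongr (Subgroup.characteristic_iff_map_eq.1 hC.characteristic β))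
    have σC_apply : ∀ x : C, ((σC x : C) : D) = β x := fun _ => rfl
    have hσC : σC = 1 := by
      refine eq_one_of_fixes_small (hDP.to_subgroup C) hC.class_two hC.pow_mem_center hq ?_
        fun x hx => Subtype.ext ?_
      · refine hβord.coprime_dvd_left (orderOf_dvd_of_pow_eq_one (MulEquiv.ext fun x => Subtype.ext ?_))
        have key : ∀ j : ℕ, (((σC ^ j) x : C) : D) = (β ^ j) x := by
          intro j
          induction j with
          | zero => rfl
          | succ j ihj => rw [pow_succ', MulAut.mul_apply, σC_apply, ihj, pow_succ', MulAut.mul_apply]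
        rw [key, pow_orderOf_eq_one]
        rfl
      · rw [σC_apply]
        refine Subtype.ext ?_
        have h := hβ 1 (x : D)
        rw [pow_one, pow_one] at h
        rw [h]
        exact congrArg Subtype.val (hfix _ ⟨(x : D), ⟨x.2, congrArg Subtype.val hx⟩, rfl⟩)
    have hβ1 : β = 1 := hC.aut_eq_one hDP hβord fun c hc => by
      have h := σC_apply ⟨c, hc⟩
      rw [hσC] at h
      exact h.symm
    refine MulEquiv.ext fun x => ?_
    have hmem : (x : Ω)⁻¹ * ((a x : R) : Ω) ∈ D :=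
      ⟨R.mul_mem (R.inv_mem x.2) (a x).2, d.hgen R hR a ha hcop x⟩
    refine eq_of_fixes_inv_mul (d.hS.to_le hR) hcop ?_
    apply Subtype.ext
    have h := hβ 1 ⟨_, hmem⟩
    rw [pow_one, pow_one, hβ1] at h
    exact h.symm

/-- The automizer of a fully normalized subgroup. -/
theorem autGroup_le {q : ℕ} (hq : (p ≠ 2 ∧ q = p) ∨ (p = 2 ∧ q = 4))
    {F E : Cfsg.FusionSystem S} {T : Subgroup Ω} (d : Data p q F E T)
    (ihF : ∀ (S' : Subgroup Ω), Finite S' → ∀ (F' E' : Cfsg.FusionSystem S') (T' : Subgroup Ω),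
      Data p q F' E' T' → (graphs F').ncard < (graphs F).ncard → ∀ P, F'.Hom P ⊆ E'.Hom P)
    {R : Subgroup Ω} (hRn : F.IsFullyNormalized R)
    (ihR : ∀ (P : Subgroup Ω) (φ : P →* Ω), φ ∈ F.Hom P → Nat.card R < Nat.card P → φ ∈ E.Hom P) :
    F.autGroup R ≤ E.autGroup R := by
  have hRS := hRn.1
  have := finite_of_le hRS
  have : Finite (MulAut R) := finite_mulAut R
  -- automorphisms carrying an outer element of `Aut_S(R)` into `Aut_S(R)` lie in `E`
  have hbig : ∀ α ∈ F.autGroup R, ∀ (g : Ω) (hgS : g ∈ S)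
      (hgN : g ∈ Subgroup.normalizer (R : Set Ω)), g ∉ R →
      α * conjAut hgN * α⁻¹ ∈ Cfsg.autInducedBy S R → α ∈ E.autGroup R := by
    intro α hα g hgS hgN hgR hg
    obtain ⟨N, hRN, ψ, hψ, hlt, he⟩ := exists_extend_aut d.hS d.hF hRn hα hgS hgN hgR hg
    exact mem_autGroup_of_apply E (restrict_mem E (ihR N ψ hψ hlt) hRN) fun x =>
      (DFunLike.congr_fun he x).symm
  intro α₀ hα₀
  by_cases hcent : centralizerIn S R ≤ R
  swap
  · obtain ⟨g, hg, hgR⟩ := Set.not_subset.1 hcent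
    refine hbig α₀ hα₀ g hg.1 (centralizerIn_le_normalizerIn R hg).2 hgR ?_
    have h1 : conjAut (centralizerIn_le_normalizerIn R hg).2 = 1 := by
      refine MulEquiv.ext fun x => Subtype.ext ?_
      rw [conjAut_apply, ← hg.2 x x.2, mul_inv_cancel_right]
      rfl
    rw [h1, mul_one, mul_inv_cancel]
    exact one_mem _
  have hRcen : F.IsCentric R :=
    isCentric_of_fullyCentralized (fullyCentralized_of_fullyNormalized d.hS d.hF hRn) hcent
  set G := F.autGroup R with hG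
  set H : Subgroup G := (E.autGroup R).subgroupOf G with hH
  set I : Subgroup G := (Cfsg.Inn R).subgroupOf G with hI
  haveI : I.Normal := normal_inn G
  obtain ⟨-, Pa, hPa⟩ := (fullyNormalized_props d.hS d.hF hRn).1
  have hPH : (Pa : Subgroup G) ≤ H := fun a ha => by
    rw [hPa] at ha
    exact autInducedBy_le_autGroup E hRS ha
  have hIP : I ≤ (Pa : Subgroup G) := fun a ha => by
    rw [hPa]
    exact inn_le_autInducedBy hRS ha
  have hN : ∀ Q : Subgroup G, Q ≤ (Pa : Subgroup G) → I < Q → Subgroup.normalizer (Q : Set G) ≤ H := by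
    intro Q hQ hIQ n hn
    obtain ⟨b, hbQ, hbI⟩ := Set.exists_of_ssubset hIQ
    have hbP := hQ hbQ
    rw [hPa] at hbP
    obtain ⟨g, hgS, hgb⟩ := mem_autInducedBy_iff.1 hbP
    have hgN := mem_normalizer_of_aut hgb
    have hb : (b : MulAut R) = conjAut hgN := MulEquiv.ext fun x => Subtype.ext (hgb x)
    have hgR : g ∉ R := fun h => hbI ⟨⟨g, h⟩, MulEquiv.ext fun x => Subtype.ext (hgb x).symm⟩
    refine hbig n n.2 g hgS hgN hgR ?_
    rw [← hb]
    have h2 := hQ ((Subgroup.mem_normalizer_iff.1 hn b).1 hbQ)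
    rw [hPa] at h2
    exact h2
  -- it suffices to treat one element
  suffices hmain : ∀ a : G, a ∈ H from hmain ⟨α₀, hα₀⟩
  clear hα₀ α₀
  obtain ⟨W, hWRT, hWq, hWinv, hWdet⟩ := exists_small_detector hq d hRS
  let Wf : Subgroup Ω := Subgroup.closure {w | w ∈ W ∧ IsFixed F w}
  have hWfW : Wf ≤ W := (Subgroup.closure_le _).2 fun w hw => hw.1
  have hWffix : ∀ a ∈ G, ∀ x : R, (x : Ω) ∈ Wf → a x = x := by
    intro a ha
    have hle : Wf ≤ (a.toMonoidHom.eqLocus (MonoidHom.id R)).map R.subtype := by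
      refine (Subgroup.closure_le _).2 fun w hw => ?_
      refine ⟨⟨w, (hWRT hw.1).1⟩, Subtype.ext ?_, rfl⟩
      exact hw.2 R _ ((mem_autGroup_iff F hRS).1 ha) (hWRT hw.1).1
    intro x hx
    obtain ⟨y, hy, hyx⟩ := hle hx
    obtain rfl : y = x := Subtype.ext hyx
    exact hy
  by_cases hall : W ≤ Wf
  · -- every `p'`-automorphism is trivial
    intro a
    have hGp : IsPGroup p G := by
      refine FusAut.isPGroup_of_prime_order fun b r hr hrp hbr => ?_
      have hcop : (orderOf (b : MulAut R)).Coprime p :=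
        coprime_orderOf_of_primePow Fact.out hr hrp (n := 1) (by
          rw [pow_one, ← Subgroup.coe_pow, hbr]; rfl)
      exact Subtype.ext (hWdet b b.2 hcop fun x hx => hWffix b b.2 x (hall hx))
    have htop := Pa.is_maximal' (hGp.to_subgroup ⊤) le_top
    exact hPH (htop ▸ Subgroup.mem_top a)
  -- a moved element, central modulo the fixed ones
  let N := normalizerIn S R
  have hNfin : Finite N := finite_of_le (normalizerIn_le R)
  have hWN : W ≤ N := fun w hw => le_normalizerIn hRS (hWRT hw).1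
  have hconjW : ∀ g ∈ N, ∀ w ∈ W, g * w * g⁻¹ ∈ W := fun g hg w hw =>
    hWinv _ (autInducedBy_le_autGroup F hRS (conjAut_mem_autInducedBy hg.2 hg.1)) ⟨w, (hWRT hw).1⟩ hw
  have hWfcen : ∀ g ∈ N, ∀ w ∈ Wf, g * w * g⁻¹ = w := fun g hg w hw =>
    congrArg Subtype.val (hWffix _ (autInducedBy_le_autGroup F hRS
      (conjAut_mem_autInducedBy hg.2 hg.1)) ⟨w, (hWRT (hWfW hw)).1⟩ hw)
  haveI hWfn : (Wf.subgroupOf N).Normal := ⟨fun w hw g => by
    have e : (g : Ω) * (w : Ω) * (g : Ω)⁻¹ = (w : Ω) := hWfcen g g.2 w hw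
    show (g : Ω) * (w : Ω) * (g : Ω)⁻¹ ∈ Wf
    rw [e]
    exact hw⟩
  haveI hWn : (W.subgroupOf N).Normal := ⟨fun w hw g => hconjW g g.2 _ hw⟩
  let π := QuotientGroup.mk' (Wf.subgroupOf N)
  haveI : ((W.subgroupOf N).map π).Normal :=
    Subgroup.Normal.map inferInstance _ (QuotientGroup.mk'_surjective _)
  have himg : (W.subgroupOf N).map π ≠ ⊥ := by
    intro h
    apply hall
    intro w hw
    have hwm : π ⟨w, hWN hw⟩ ∈ (W.subgroupOf N).map π := ⟨⟨w, hWN hw⟩, hw, rfl⟩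
    rw [h, Subgroup.mem_bot] at hwm
    exact (QuotientGroup.eq_one_iff (N := Wf.subgroupOf N) _).1 hwm
  obtain ⟨xq, ⟨⟨x', hx'W, hx'⟩, hxc⟩, hxq1⟩ : ∃ y, y ∈ (W.subgroupOf N).map π ⊓
      Subgroup.center (N ⧸ Wf.subgroupOf N) ∧ y ≠ 1 := by
    by_contra h
    push_neg at h
    exact PGroup.inf_center_ne_bot ((d.hS.to_le (normalizerIn_le R)).to_quotient _) _ himg
      (eq_bot_iff.2 fun y hy => h y hy)
  set x : Ω := (x' : Ω) with hxdef
  have hxW : x ∈ W := hx'W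
  have hxR : x ∈ R := (hWRT hxW).1
  have hxT : x ∈ T := (hWRT hxW).2
  have hxm : ¬ IsFixed F x := by
    intro h
    apply hxq1
    rw [← hx']
    exact (QuotientGroup.eq_one_iff (N := Wf.subgroupOf N) _).2 (Subgroup.subset_closure ⟨hxW, h⟩)
  have hxconj : ∀ g ∈ N, ∃ w ∈ Wf, g * x * g⁻¹ = w * x := by
    intro g hg
    refine ⟨g * x * g⁻¹ * x⁻¹, ?_, by group⟩
    have h := Subgroup.mem_center_iff.1 hxc (π ⟨g, hg⟩)
    rw [← hx'] at h
    have h2 : π (⟨g, hg⟩ * x' * ⟨g, hg⟩⁻¹ * x'⁻¹) = 1 := by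
      rw [map_mul, map_mul, map_mul, map_inv, map_inv, h]
      group
    exact (QuotientGroup.eq_one_iff (N := Wf.subgroupOf N) _).1 h2
  let R0 : Subgroup Ω := R ⊓ Subgroup.centralizer {x}
  have hR0R : R0 ≤ R := inf_le_left
  have hR0conj : ∀ g ∈ N, ∀ r ∈ R0, g * r * g⁻¹ ∈ R0 := by
    intro g hg r hr
    refine ⟨conj_mem_of_normalizer hg.2 hr.1, Subgroup.mem_centralizer_singleton_iff.2 ?_⟩
    obtain ⟨w, hw, hgx⟩ := hxconj g⁻¹ (inv_mem hg)
    have hrw : r * w = w * r := by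
      have h1 := hWfcen r (le_normalizerIn hRS hr.1) w hw
      calc r * w = r * w * r⁻¹ * r := by group
        _ = w * r := by rw [h1]
    have hrx : r * x = x * r := Subgroup.mem_centralizer_singleton_iff.1 hr.2
    rw [inv_inv] at hgx
    calc g * r * g⁻¹ * x = g * (r * (g⁻¹ * x * g)) * g⁻¹ := by group
      _ = g * ((g⁻¹ * x * g) * r) * g⁻¹ := by
        rw [hgx, show r * (w * x) = w * x * r by rw [← mul_assoc, hrw, mul_assoc, hrx, ← mul_assoc]]
      _ = x * (g * r * g⁻¹) := by group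
  let C0 : Subgroup G :=
    { carrier := {b | ∀ r : R, (r : Ω) ∈ R0 → (b : MulAut R) r = r}
      one_mem' := fun r _ => rfl
      mul_mem' := fun {a b} ha hb r hr => by
        show (a : MulAut R) ((b : MulAut R) r) = r
        rw [hb r hr, ha r hr]
      inv_mem' := fun {a} ha r hr => by
        show (a : MulAut R)⁻¹ r = r
        rw [MulAut.inv_apply, MulEquiv.symm_apply_eq]
        exact (ha r hr).symm }
  have hxR0 : x ∈ R0 := ⟨hxR, Subgroup.mem_centralizer_singleton_iff.2 rfl⟩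
  have hC0p : IsPGroup p C0 := by
    rintro ⟨b, hb⟩
    obtain ⟨k, hk⟩ := IsPGroup.iff_card.1 (d.hS.to_le hRS)
    refine ⟨k, Subtype.ext (Subtype.ext (MulEquiv.ext fun r => ?_))⟩
    set u := r⁻¹ * (b : MulAut R) r with hu
    have hru : (b : MulAut R) r = r * u := by rw [hu, mul_inv_cancel_left]
    obtain ⟨w, hw, hrx⟩ := hxconj r (le_normalizerIn hRS r.2)
    let xR : R := ⟨x, hxR⟩
    let wR : R := ⟨w, (hWRT (hWfW hw)).1⟩
    have e1 : r * xR * r⁻¹ = wR * xR := Subtype.ext hrx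
    have e2 : (b : MulAut R) (r * xR * r⁻¹) = r * xR * r⁻¹ := by
      rw [e1, map_mul, hb xR hxR0, hWffix b b.2 wR hw]
    rw [map_mul, map_mul, map_inv, hb xR hxR0, hru] at e2
    have huR0 : ((u : R) : Ω) ∈ R0 := by
      refine ⟨u.2, Subgroup.mem_centralizer_singleton_iff.2 ?_⟩
      have e3 : u * xR * u⁻¹ = xR := by
        calc u * xR * u⁻¹ = r⁻¹ * (r * u * xR * (r * u)⁻¹) * r := by group
          _ = r⁻¹ * (r * xR * r⁻¹) * r := by rw [e2]
          _ = xR := by group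
      have e4 : u * xR = xR * u := by
        calc u * xR = u * xR * u⁻¹ * u := by group
          _ = xR * u := by rw [e3]
      exact congrArg Subtype.val e4
    show ((b : MulAut R) ^ p ^ k) r = r
    rw [pow_fix_mul hru (hb u huR0), ← hk, pow_card_eq_one', mul_one]
  have hC0P : C0 ≤ (Pa : Subgroup G) := by
    have hPN : (Pa : Subgroup G) ≤ Subgroup.normalizer (C0 : Set G) := by
      intro b hb
      rw [hPa] at hb
      obtain ⟨g, hgS, hgb⟩ := mem_autInducedBy_iff.1 hb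
      have hgN : g ∈ N := ⟨hgS, mem_normalizer_of_aut hgb⟩
      refine Subgroup.mem_normalizer_fintype fun c hc r hr => ?_
      show (b : MulAut R) ((c : MulAut R) ((b : MulAut R)⁻¹ r)) = r
      have hmem : (((b : MulAut R)⁻¹ r : R) : Ω) ∈ R0 := by
        have h := hgb ((b : MulAut R)⁻¹ r)
        have h0 : (b : MulAut R) ((b : MulAut R)⁻¹ r) = r := (b : MulAut R).apply_symm_apply r
        have h' : (((b : MulAut R)⁻¹ r : R) : Ω) = g⁻¹ * (r : Ω) * g⁻¹⁻¹ := by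
          have h1 : (r : Ω) = g * (((b : MulAut R)⁻¹ r : R) : Ω) * g⁻¹ := by
            rw [← h]; exact (congrArg Subtype.val h0).symm
          rw [h1]; group
        rw [h']
        exact hR0conj g⁻¹ (inv_mem hgN) _ hr
      rw [hc _ hmem, MulAut.inv_apply, MulEquiv.apply_symm_apply]
    have hsup := hC0p.to_sup_of_normal_left' Pa.isPGroup' hPN
    rw [← Pa.is_maximal' hsup le_sup_right]
    exact le_sup_left
  intro a
  by_cases hmeet : ∃ b ∈ C0, b ∉ I ∧ a * b * a⁻¹ ∈ H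
  · obtain ⟨b, hb, hbI, hab⟩ := hmeet
    have hIp : IsPGroup p I := Pa.isPGroup'.to_le hIP
    have hzp : IsPGroup p (Subgroup.zpowers (a * b * a⁻¹)) := by
      refine ((hC0p.to_le (Subgroup.zpowers_le.2 hb)).map (MulAut.conj a).toMonoidHom).to_le ?_
      rw [MonoidHom.map_zpowers]
      exact le_of_eq rfl
    refine mem_of_meet Pa hPH hN (Q := I ⊔ Subgroup.zpowers (a * b * a⁻¹))
      (hIp.to_sup_of_normal_left hzp) ?_ (sup_le (hIP.trans hPH) (Subgroup.zpowers_le.2 hab)) ?_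
    · refine lt_of_le_of_ne le_sup_left fun e => hbI ?_
      have h1 : a * b * a⁻¹ ∈ I := e.symm ▸ Subgroup.mem_sup_right (Subgroup.mem_zpowers _)
      simpa [mul_assoc] using (inferInstance : I.Normal).conj_mem _ h1 a⁻¹
    · have hle : I ⊔ Subgroup.zpowers (a * b * a⁻¹) ≤ H.comap (MulAut.conj a⁻¹).toMonoidHom := by
        refine sup_le (fun y hy => ?_) (Subgroup.zpowers_le.2 ?_)
        · exact hPH (hIP ((inferInstance : I.Normal).conj_mem y hy a⁻¹))
        · show a⁻¹ * (a * b * a⁻¹) * a⁻¹⁻¹ ∈ H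
          rw [show a⁻¹ * (a * b * a⁻¹) * a⁻¹⁻¹ = b by group]
          exact hPH (hC0P hb)
      intro y hy
      have h := hle hy
      simpa using h
  push_neg at hmeet
  -- `a` agrees on `R0` with an automorphism in `E`
  obtain ⟨α, hαG⟩ := a
  have hR0S : R0 ≤ S := hR0R.trans hRS
  let e₀ : R0 →* Ω := (R.subtype.comp α.toMonoidHom).comp (Subgroup.inclusion hR0R)
  have he₀E : e₀ ∈ E.Hom R0 :=
    mem_of_centralize_moved d ihF hxT (hWq x hxW) hxm hxR0
      (fun r hr => Subgroup.mem_centralizer_singleton_iff.1 hr.2)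
      (restrict_mem F ((mem_autGroup_iff F hRS).1 hαG) hR0R)
  let R0' : Subgroup Ω := e₀.range
  have hR0'R : R0' ≤ R := by rintro _ ⟨r, rfl⟩; exact (α _).2
  have hR0'S : R0' ≤ S := hR0'R.trans hRS
  have hRN0 : R ≤ normalizerIn S R0' := by
    intro t ht
    refine ⟨hRS ht, ?_⟩
    have : Finite R0' := finite_of_le hR0'S
    refine Subgroup.mem_normalizer_fintype ?_
    rintro _ ⟨r, rfl⟩
    let s : R := α⁻¹ ⟨t, ht⟩
    refine ⟨⟨_, hR0conj s (le_normalizerIn hRS s.2) r r.2⟩, ?_⟩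
    show ((α (Subgroup.inclusion hR0R ⟨_, _⟩) : R) : Ω) = t * ((α _ : R) : Ω) * t⁻¹
    rw [show Subgroup.inclusion hR0R ⟨(s : Ω) * (r : Ω) * (s : Ω)⁻¹, _⟩ =
      s * Subgroup.inclusion hR0R r * s⁻¹ from Subtype.ext rfl, map_mul, map_mul, map_inv,
      show α s = ⟨t, ht⟩ from α.apply_symm_apply _]
    rfl
  obtain ⟨R0'', hconj, hn''⟩ := exists_fullyNormalized E hR0'S
  obtain ⟨f, hf, hfr, ff, hff, hffe⟩ := exists_normalizer_map_fn d.hS d.hE hn'' hconj
  let fR : R →* Ω := ff.comp (Subgroup.inclusion hRN0)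
  have hfR : fR ∈ E.Hom R := restrict_mem E hff hRN0
  have hmem0 : ∀ r : R0, e₀ r ∈ R0' := fun r => ⟨r, rfl⟩
  let φ₀ : R0 →* Ω := f.comp (e₀.codRestrict R0' hmem0)
  have hφ₀ : φ₀ ∈ E.Hom R0 := E.comp_mem he₀E hf hmem0
  have hφ₀r : φ₀.range = R0'' := by
    rw [← hfr]
    refine le_antisymm ?_ ?_
    · rintro _ ⟨r, rfl⟩; exact ⟨_, rfl⟩
    · rintro _ ⟨⟨_, r, rfl⟩, rfl⟩; exact ⟨r, rfl⟩
  have hφ₀f : ∀ r : R0, φ₀ r = fR (α (Subgroup.inclusion hR0R r)) := fun r =>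
    (hffe ⟨_, hmem0 r⟩ (hRN0 (α _).2)).symm
  have hext : R ≤ Cfsg.FusionSystem.extender S R0 φ₀ := by
    intro t ht
    refine mem_extender_iff.2 ⟨hRS ht, ?_, fR (α ⟨t, ht⟩), hom_mem E hfR _, fun r hr => ?_⟩
    · have : Finite R0 := finite_of_le hR0S
      exact Subgroup.mem_normalizer_fintype fun r hr => hR0conj t (le_normalizerIn hRS ht) r hr
    · rw [hφ₀f, hφ₀f, ← map_inv, ← map_mul, ← map_mul]
      refine congrArg fR ?_
      rw [← map_inv, ← map_mul, ← map_mul]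
      rfl
  obtain ⟨ψ, hψ, hψe⟩ := exists_ext (fullyNormalized_props d.hS d.hE hn'').2 hφ₀ hφ₀r hR0R hext
  -- the image of `ψ` is that of `fR`
  let Rf : Subgroup Ω := fR.range
  let Cz : Subgroup Ω := centralizerIn S R0''
  have hRfS : Rf ≤ S := range_le E hfR
  have hcz : ∀ t : R, (fR (α t))⁻¹ * ψ t ∈ Cz := by
    intro t
    refine ⟨S.mul_mem (S.inv_mem (hom_mem E hfR _)) (hom_mem E hψ t), ?_⟩
    intro y hy
    rw [← hφ₀r] at hy
    obtain ⟨r, rfl⟩ := hy
    have htr := hR0conj t (le_normalizerIn hRS t.2) r r.2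
    have h1 : ψ t * φ₀ r * (ψ t)⁻¹ = fR (α t) * φ₀ r * (fR (α t))⁻¹ := by
      calc ψ t * φ₀ r * (ψ t)⁻¹ = φ₀ ⟨_, htr⟩ := by
            rw [← hψe r, ← map_inv, ← map_mul, ← map_mul, ← hψe]
            rfl
        _ = _ := by
            rw [hφ₀f, hφ₀f, ← map_inv, ← map_mul, ← map_mul, ← map_inv, ← map_mul, ← map_mul]
            rfl
    calc φ₀ r * ((fR (α t))⁻¹ * ψ t)
        = (fR (α t))⁻¹ * (fR (α t) * φ₀ r * (fR (α t))⁻¹) * ψ t := by group
      _ = (fR (α t))⁻¹ * (ψ t * φ₀ r * (ψ t)⁻¹) * ψ t := by rw [h1]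
      _ = (fR (α t))⁻¹ * ψ t * φ₀ r := by group
  let U : Subgroup Ω := Rf ⊔ Cz
  have hψU : ψ.range ≤ U := by
    rintro _ ⟨t, rfl⟩
    rw [show ψ t = fR (α t) * ((fR (α t))⁻¹ * ψ t) by group]
    exact Subgroup.mul_mem_sup ⟨_, rfl⟩ (hcz t)
  have hUle : U ≤ Rf := by
    have hUS : U ≤ S := sup_le hRfS (centralizerIn_le _)
    by_contra hne
    have : Finite U := finite_of_le hUS
    obtain ⟨u, ⟨huU, huN⟩, huR⟩ := exists_normalizing_not_mem (S := U) (P := Rf) (d.hS.to_le hUS)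
      le_sup_left fun e => hne e.ge
    have hnormC : Rf ≤ Subgroup.normalizer (Cz : Set Ω) := by
      rintro _ ⟨t, rfl⟩
      have : Finite Cz := finite_of_le (centralizerIn_le _)
      refine Subgroup.mem_normalizer_fintype fun c hc => ⟨S.mul_mem (S.mul_mem (hom_mem E hfR t) hc.1)
        (S.inv_mem (hom_mem E hfR t)), fun y hy => ?_⟩
      have hy' : (fR t)⁻¹ * y * fR t ∈ R0'' := by
        rw [← hφ₀r] at hy ⊢
        obtain ⟨r, rfl⟩ := hy
        refine ⟨⟨_, hR0conj _ (le_normalizerIn hRS (α⁻¹ t⁻¹).2) r r.2⟩, ?_⟩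
        rw [hφ₀f, hφ₀f, ← map_inv, ← map_mul, ← map_mul]
        refine congrArg fR ?_
        rw [show Subgroup.inclusion hR0R ⟨(((α⁻¹ t⁻¹ : R)) : Ω) * (r : Ω) * ((α⁻¹ t⁻¹ : R) : Ω)⁻¹, _⟩ =
          α⁻¹ t⁻¹ * Subgroup.inclusion hR0R r * (α⁻¹ t⁻¹)⁻¹ from Subtype.ext rfl, map_mul, map_mul,
          map_inv]
        simp only [map_inv, show α (α⁻¹ t) = t from α.apply_symm_apply _, inv_inv]
      calc y * (fR t * c * (fR t)⁻¹) = fR t * (((fR t)⁻¹ * y * fR t) * c) * (fR t)⁻¹ := by group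
        _ = fR t * (c * ((fR t)⁻¹ * y * fR t)) * (fR t)⁻¹ := by rw [hc.2 _ hy']
        _ = fR t * c * (fR t)⁻¹ * y := by group
    have hu' : u ∈ ((Rf : Set Ω) * (Cz : Set Ω)) := by
      rw [← Subgroup.coe_mul_of_left_le_normalizer_right _ _ hnormC]
      exact huU
    obtain ⟨r₁, hr₁, c, hc, rfl⟩ := hu'
    have hcN : c ∈ Subgroup.normalizer (Rf : Set Ω) := by
      have := Subgroup.mul_mem _ (Subgroup.inv_mem _ (Subgroup.le_normalizer (H := Rf) hr₁)) huN
      simpa using this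
    apply huR
    refine Rf.mul_mem hr₁ ?_
    have hcc := autInducedBy_le_autGroup E hRfS (conjAut_mem_autInducedBy hcN hc.1)
    let γ : MulAut R := (MulAut.congr (isoOf hfR (rfl : fR.range = Rf))).symm (conjAut hcN)
    have hγE : γ ∈ E.autGroup R := congr_symm_mem_autGroup hfR rfl hcc
    have hγG : γ ∈ F.autGroup R := autGroup_mono d.hEF R hγE
    have hγfix : ∀ y : R, fR (γ y) = c * fR y * c⁻¹ := fun y =>
      isoOf_symm_apply hfR (rfl : fR.range = Rf) _
    have hconjmem : (⟨α, hαG⟩ : G)⁻¹ * ⟨γ, hγG⟩ * ⟨α, hαG⟩ ∈ C0 := by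
      intro r hr
      show α⁻¹ (γ (α r)) = r
      rw [MulAut.inv_apply, MulEquiv.symm_apply_eq]
      refine (F.injective_of_mem (d.hEF _ hfR)) ?_
      rw [hγfix]
      have h0 : φ₀ ⟨r, hr⟩ = fR (α r) := hφ₀f ⟨r, hr⟩
      rw [← h0, ← hc.2 _ (hφ₀r.le ⟨⟨r, hr⟩, rfl⟩), mul_inv_cancel_right]
    have hγI : (⟨γ, hγG⟩ : G) ∈ I := by
      by_contra hni
      have hni' : (⟨α, hαG⟩ : G)⁻¹ * ⟨γ, hγG⟩ * ⟨α, hαG⟩ ∉ I := fun h => hni (by
        rw [show (⟨γ, hγG⟩ : G) = ⟨α, hαG⟩ * ((⟨α, hαG⟩ : G)⁻¹ * ⟨γ, hγG⟩ * ⟨α, hαG⟩) *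
          (⟨α, hαG⟩ : G)⁻¹ by group]
        exact (inferInstance : I.Normal).conj_mem _ h ⟨α, hαG⟩)
      exact hmeet _ hconjmem hni' (by
        rw [show (⟨α, hαG⟩ : G) * ((⟨α, hαG⟩ : G)⁻¹ * ⟨γ, hγG⟩ * ⟨α, hαG⟩) * (⟨α, hαG⟩ : G)⁻¹ =
          ⟨γ, hγG⟩ by group]
        exact hγE)
    obtain ⟨r₀, hr₀⟩ := hγI
    have hr₀' : ∀ y : R, fR r₀ * fR y * (fR r₀)⁻¹ = c * fR y * c⁻¹ := fun y => by
      rw [← hγfix, ← map_inv, ← map_mul, ← map_mul]
      exact congrArg fR (DFunLike.congr_fun hr₀ y)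
    have hcR : c⁻¹ * fR r₀ ∈ Rf := by
      have hRfc : centralizerIn S Rf ≤ Rf := hRcen.2 Rf ⟨fR, d.hEF _ hfR, rfl⟩
      refine hRfc ⟨S.mul_mem (S.inv_mem hc.1) (hom_mem E hfR r₀), ?_⟩
      rintro _ ⟨y, rfl⟩
      calc fR y * (c⁻¹ * fR r₀) = c⁻¹ * (c * fR y * c⁻¹) * fR r₀ := by group
        _ = c⁻¹ * (fR r₀ * fR y * (fR r₀)⁻¹) * fR r₀ := by rw [hr₀']
        _ = c⁻¹ * fR r₀ * fR y := by group
    have h9 := Rf.mul_mem (⟨r₀, rfl⟩ : fR r₀ ∈ Rf) (Rf.inv_mem hcR)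
    simpa using h9
  have hr : ψ.range = Rf := by
    have : Finite Rf := finite_of_le hRfS
    refine Subgroup.eq_of_le_of_card_ge (hψU.trans hUle) ?_
    rw [← isConj_card (isConj_of_hom E hfR), ← isConj_card (isConj_of_hom E hψ)]
  let γ0 : MulAut R := (isoOf hψ hr).trans (isoOf hfR (rfl : fR.range = Rf)).symm
  have hγ0E : γ0 ∈ E.autGroup R :=
    mem_autGroup_of_mem E (hom_of_comp E (isoOf_mem hψ hr) (isoOf_symm_mem hfR rfl)
      (fun y => (isoOf hψ hr y).2) fun _ => rfl)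
  have hdiff : (⟨α, hαG⟩ : G)⁻¹ * ⟨γ0, autGroup_mono d.hEF R hγ0E⟩ ∈ C0 := by
    intro r hr'
    show α⁻¹ (γ0 r) = r
    rw [MulAut.inv_apply, MulEquiv.symm_apply_eq]
    show (isoOf hfR rfl).symm (isoOf hψ hr r) = α r
    rw [MulEquiv.symm_apply_eq]
    apply Subtype.ext
    show ψ r = fR (α r)
    exact (hψe ⟨r, hr'⟩).trans (hφ₀f ⟨r, hr'⟩)
  have h1 := hPH (hC0P hdiff)
  have h2 : (⟨γ0, autGroup_mono d.hEF R hγ0E⟩ : G) ∈ H := hγ0E
  have h3 := H.mul_mem h2 (H.inv_mem h1)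
  simpa using h3

end CfsgLib.SmallExponentControl
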