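import Cfsg.Agent.SmallExponentControl.Core

/-!
A saturated subsystem with the same maps on small abelian subgroups is the whole system.
-/

set_option autoImplicit false

namespace CfsgLib.SmallExponentControl

open CfsgLib.Fus CfsgLib.Fusion.Alperin Cfsg.FusionSystem

variable {Ω : Type*} [Group Ω] {p q : ℕ} [Fact p.Prime]

private theorem step {S : Subgroup Ω} [Finite S] {F E : Cfsg.FusionSystem S} {T : Subgroup Ω}
    (hq : (p ≠ 2 ∧ q = p) ∨ (p = 2 ∧ q = 4)) (d : Data p q F E T)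
    (ihF : ∀ (S' : Subgroup Ω), Finite S' → ∀ (F' E' : Cfsg.FusionSystem S') (T' : Subgroup Ω),
      Data p q F' E' T' → (graphs F').ncard < (graphs F).ncard → ∀ P, F'.Hom P ⊆ E'.Hom P)
    {P : Subgroup Ω} (ihP : ∀ (X : Subgroup Ω) (χ : X →* Ω), χ ∈ F.Hom X →
      Nat.card P < Nat.card X → χ ∈ E.Hom X)
    {φ : P →* Ω} (hφ : φ ∈ F.Hom P) : φ ∈ E.Hom P := by
  have hPS := hom_le F hφ
  obtain ⟨Q, hPQ, hQn⟩ := exists_fullyNormalized F hPS
  have hQS := hQn.1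
  -- every map of the class with image `Q` lies in `E`
  have hinto : ∀ (X : Subgroup Ω) (ψ : X →* Ω), ψ ∈ F.Hom X → Nat.card X = Nat.card P →
      ψ.range = Q → ψ ∈ E.Hom X := by
    intro X ψ hψ hXP hψr
    have hXS := hom_le F hψ
    have haut : F.autGroup Q ≤ E.autGroup Q :=
      autGroup_le hq d ihF hQn fun Y χ hχ hlt => ihP Y χ hχ (by
        rwa [← hXP, isConj_card ⟨ψ, hψ, hψr⟩])
    obtain ⟨f, hfE, hfr⟩ : ∃ f ∈ E.Hom X, f.range = Q := by
      by_cases hXeq : X = S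
      · refine ⟨X.subtype, subtype_mem E hXS, ?_⟩
        rw [Subgroup.range_subtype]
        have : Finite X := finite_of_le hXS
        refine (Subgroup.eq_of_le_of_card_ge (hQS.trans hXeq.ge) ?_).symm
        exact (isConj_card ⟨ψ, hψ, hψr⟩).le
      · obtain ⟨f, hf, hfr, ff, hff, hffe⟩ := exists_normalizer_map_fn d.hS d.hF hQn ⟨ψ, hψ, hψr⟩
        obtain ⟨g, hg, hgX⟩ := exists_normalizing_not_mem d.hS hXS hXeq
        have hle : X ≤ normalizerIn S X := le_normalizerIn hXS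
        have : Finite (normalizerIn S X) := finite_of_le (normalizerIn_le X)
        have hlt : Nat.card X < Nat.card (normalizerIn S X) := by
          refine lt_of_le_of_ne (Subgroup.card_le_of_le hle) fun h => hgX ?_
          rw [Subgroup.eq_of_le_of_card_ge hle h.ge]
          exact hg
        exact ⟨f, hom_restrict E (ihP _ ff hff (hXP ▸ hlt)) hle
          (fun x => (hffe x (hle x.2)).symm), hfr⟩
    have hfF : f ∈ F.Hom X := d.hEF X hfE
    let β : MulAut Q := (isoOf hfF hfr).symm.trans (isoOf hψ hψr)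
    have hβ : β ∈ E.autGroup Q := haut (mem_autGroup_of_mem F
      (hom_of_comp F (isoOf_symm_mem hfF hfr) (isoOf_mem hψ hψr)
        (fun y => ((isoOf hfF hfr).symm y).2) fun y => rfl))
    refine hom_of_comp E hfE ((mem_autGroup_iff E hQS).1 hβ) (fun x => hfr.le ⟨x, rfl⟩) fun x => ?_
    show ψ x = ψ ((isoOf hfF hfr).symm ⟨f x, _⟩)
    exact congrArg ψ ((isoOf hfF hfr).symm_apply_apply x).symm
  obtain ⟨f₀, hf₀, hf₀r⟩ := isConj_trans (isConj_symm ⟨φ, hφ, rfl⟩) hPQ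
  have hcard : Nat.card φ.range = Nat.card P := (isConj_card ⟨φ, hφ, rfl⟩).symm
  have hf₀E : f₀ ∈ E.Hom φ.range := hinto _ f₀ hf₀ hcard hf₀r
  have hmem : ∀ x : P, φ x ∈ φ.range := fun x => ⟨x, rfl⟩
  let χ : P →* Ω := f₀.comp (φ.codRestrict φ.range hmem)
  have hχ : χ ∈ E.Hom P := by
    refine hinto P χ (F.comp_mem hφ hf₀ hmem) rfl ?_
    rw [← hf₀r]
    refine le_antisymm ?_ ?_
    · rintro _ ⟨x, rfl⟩
      exact ⟨_, rfl⟩
    · rintro _ ⟨⟨_, x, rfl⟩, rfl⟩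
      exact ⟨x, rfl⟩
  obtain ⟨g, hg, -, hgf, -⟩ := exists_inv E hf₀E hf₀r
  have hχQ : ∀ x, χ x ∈ Q := fun x => hf₀r.le ⟨_, rfl⟩
  exact hom_congr E (E.comp_mem hχ hg hχQ) fun x => (hgf ⟨φ x, hmem x⟩ (hχQ x)).symm

private theorem hom_subset_aux (hq : (p ≠ 2 ∧ q = p) ∨ (p = 2 ∧ q = 4)) (n : ℕ) :
    ∀ (S : Subgroup Ω), ∀ hfin : Finite S, ∀ (F E : Cfsg.FusionSystem S) (T : Subgroup Ω),
      Data p q F E T → (graphs F).ncard = n → ∀ P, F.Hom P ⊆ E.Hom P := by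
  induction n using Nat.strong_induction_on with
  | _ n ih =>
    intro S hfin F E T d hn
    have ihF : ∀ (S' : Subgroup Ω), Finite S' → ∀ (F' E' : Cfsg.FusionSystem S') (T' : Subgroup Ω),
        Data p q F' E' T' → (graphs F').ncard < (graphs F).ncard → ∀ P, F'.Hom P ⊆ E'.Hom P :=
      fun S' hS' F' E' T' d' hlt => ih _ (hn ▸ hlt) S' hS' F' E' T' d' rfl
    suffices h : ∀ m : ℕ, ∀ (P : Subgroup Ω) (φ : P →* Ω), φ ∈ F.Hom P →
        Nat.card S ≤ Nat.card P + m → φ ∈ E.Hom P from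
      fun P φ hφ => h (Nat.card S) P φ hφ (Nat.le_add_left _ _)
    intro m
    induction m with
    | zero =>
      intro P φ hφ hm
      refine step hq d ihF (fun X χ hχ hlt => ?_) hφ
      have := Subgroup.card_le_of_le (hom_le F hχ)
      omega
    | succ m ihm =>
      intro P φ hφ hm
      exact step hq d ihF (fun X χ hχ hlt => ihm X χ hχ (by omega)) hφ

/-- The systems are equal. -/
theorem hom_eq (hq : (p ≠ 2 ∧ q = p) ∨ (p = 2 ∧ q = 4)) {S : Subgroup Ω} [hfin : Finite S]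
    {F E : Cfsg.FusionSystem S} {T : Subgroup Ω} (d : Data p q F E T) (P : Subgroup Ω) :
    E.Hom P = F.Hom P :=
  Set.Subset.antisymm (d.hEF P) (hom_subset_aux hq _ S hfin F E T d rfl P)

/-- The hypothesis on small abelian subgroups, in the form of the statements. -/
theorem mem_of_homSet_eq {S : Subgroup Ω} {F E : Cfsg.FusionSystem S} {T : Subgroup Ω}
    (hT : F.StronglyClosed T) (hq : (p ≠ 2 ∧ q = p) ∨ (p = 2 ∧ q = 4))
    (hodd : p ≠ 2 → ∀ A B : Subgroup Ω, A ≤ T → B ≤ T → Cfsg.IsElementaryAbelian p A →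
      Cfsg.IsElementaryAbelian p B → E.homSet A B = F.homSet A B)
    (htwo : p = 2 → ∀ A B : Subgroup Ω, A ≤ T → B ≤ T → IsMulCommutative A → IsMulCommutative B →
      (∀ a ∈ A, a ^ 4 = 1) → (∀ b ∈ B, b ^ 4 = 1) → E.homSet A B = F.homSet A B)
    {A : Subgroup Ω} (hAT : A ≤ T) (hAq : ∀ a ∈ A, a ^ q = 1)
    (hAc : ∀ a ∈ A, ∀ b ∈ A, a * b = b * a) {φ : A →* Ω} (hφ : φ ∈ F.Hom A) : φ ∈ E.Hom A := by
  have hBT : φ.range ≤ T := by
    rintro _ ⟨a, rfl⟩
    exact hT.2 A hAT φ hφ a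
  have hA : IsMulCommutative A := ⟨⟨fun a b => Subtype.ext (hAc a a.2 b b.2)⟩⟩
  have hB : IsMulCommutative φ.range := ⟨⟨by
    rintro ⟨_, a, rfl⟩ ⟨_, b, rfl⟩
    apply Subtype.ext
    show φ a * φ b = φ b * φ a
    rw [← map_mul, ← map_mul]
    exact congrArg φ (Subtype.ext (hAc a a.2 b b.2))⟩⟩
  have hBq : ∀ b ∈ φ.range, b ^ q = 1 := by
    rintro _ ⟨a, rfl⟩
    rw [← map_pow, show a ^ q = 1 from Subtype.ext (hAq a a.2), map_one]
  have hmem : φ ∈ F.homSet A φ.range := ⟨hφ, fun x => ⟨x, rfl⟩⟩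
  rcases hq with ⟨hp, rfl⟩ | ⟨hp, rfl⟩
  · rw [← hodd hp A φ.range hAT hBT ⟨hA, hAq⟩ ⟨hB, hBq⟩] at hmem
    exact hmem.1
  · rw [← htwo hp A φ.range hAT hBT hA hB hAq hBq] at hmem
    exact hmem.1

end CfsgLib.SmallExponentControl
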