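import Cfsg.Agent.SmallExponentControl.Group
import Cfsg.Agent.Fus.LocalSystems
import Cfsg.Agent.Fus.Centric
import Cfsg.Agent.Fus.KNormalizer

/-!
Fixed elements of a fusion system, the count of its maps, and maps on subgroups centralizing a
moved element.
-/

set_option autoImplicit false

namespace CfsgLib.SmallExponentControl

open CfsgLib.Fus CfsgLib.Fusion.Alperin Cfsg.FusionSystem

variable {Ω : Type*} [Group Ω] {S : Subgroup Ω}

/-- `x` is fixed by every map defined on it. -/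
def IsFixed (F : Cfsg.FusionSystem S) (x : Ω) : Prop :=
  ∀ (P : Subgroup Ω) (φ : P →* Ω), φ ∈ F.Hom P → ∀ h : x ∈ P, φ ⟨x, h⟩ = x

/-- The graph of a map. -/
def graph {P : Subgroup Ω} (φ : P →* Ω) : Set (Ω × Ω) := Set.range fun x : P => ((x : Ω), φ x)

/-- The graphs of all maps of the system. -/
def graphs (F : Cfsg.FusionSystem S) : Set (Set (Ω × Ω)) :=
  {s | ∃ (P : Subgroup Ω) (φ : P →* Ω), φ ∈ F.Hom P ∧ s = graph φ}

theorem graphs_finite [Finite S] (F : Cfsg.FusionSystem S) : (graphs F).Finite := by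
  have hS : ((S : Set Ω) ×ˢ (S : Set Ω)).Finite :=
    (Set.toFinite (S : Set Ω)).prod (Set.toFinite (S : Set Ω))
  refine hS.finite_subsets.subset ?_
  rintro _ ⟨P, φ, hφ, rfl⟩ _ ⟨x, rfl⟩
  exact ⟨hom_le F hφ x.2, hom_mem F hφ x⟩

/-- Saturation of the centralizer system. -/
theorem isSaturated_centralizerSystem [Finite S] {p : ℕ} [Fact p.Prime] (hS : IsPGroup p S)
    {F : Cfsg.FusionSystem S} (hF : F.IsSaturated p) {Q : Subgroup Ω}
    (hQ : F.IsFullyCentralized Q) (hQS : Q ≤ S) : (centralizerSystem F Q hQS).IsSaturated p := by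
  refine isSaturated_kNormalizer hS hF (receptive_of_fullyCentralized hS hF hQ) (K := ⊥)
    (fun X hX _ => ⟨1, Subgroup.one_mem _, fun x hx => ?_⟩) (kNormalizer_bot Q).symm _
    fun P φ => ?_
  · have hx1 : x = 1 := (hX hx).2
    subst hx1
    simp
  constructor
  · rintro ⟨hφ, hP, hφN, ψ, hψ, hext, hψQ⟩
    exact ⟨hφ, hP, hφN, ψ, hψ, hext, 1, Subgroup.one_mem _, hψQ⟩
  · rintro ⟨hφ, hP, hφN, ψ, hψ, hext, α, hα, hαx⟩
    rw [Subgroup.mem_bot] at hα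
    subst hα
    exact ⟨hφ, hP, hφN, ψ, hψ, hext, hαx⟩

theorem graphs_centralizer_ssubset {F : Cfsg.FusionSystem S} {Z : Subgroup Ω} (hZ : Z ≤ S) {x : Ω}
    (hx : x ∈ Z) (h : ¬ IsFixed F x) : graphs (centralizerSystem F Z hZ) ⊂ graphs F := by
  refine Set.ssubset_iff_subset_ne.2 ⟨?_, fun e => ?_⟩
  · rintro _ ⟨P, φ, hφ, rfl⟩
    exact ⟨P, φ, hφ.1, rfl⟩
  · apply h
    intro P φ hφ hxP
    have hg : graph φ ∈ graphs (centralizerSystem F Z hZ) := e.symm ▸ ⟨P, φ, hφ, rfl⟩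
    obtain ⟨P', φ', ⟨-, -, -, ψ, -, hext, hψZ⟩, he⟩ := hg
    obtain ⟨y, hy⟩ : ((x, φ ⟨x, hxP⟩) : Ω × Ω) ∈ graph φ' := he ▸ ⟨⟨x, hxP⟩, rfl⟩
    obtain ⟨hy1, hy2⟩ := Prod.mk.inj hy
    rw [← hy2, ← hext]
    exact (congrArg ψ (Subtype.ext hy1)).trans (hψZ ⟨x, hx⟩)

variable [Finite S] {p : ℕ} [Fact p.Prime]

/-- Data of the induction: `E` is a saturated subsystem containing the maps of `F` on the small
abelian subgroups of `T`, and `T` is strongly closed and contains the displacements of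
`p'`-automorphisms. -/
structure Data (p q : ℕ) (F E : Cfsg.FusionSystem S) (T : Subgroup Ω) : Prop where
  hS : IsPGroup p S
  hF : F.IsSaturated p
  hE : E.IsSaturated p
  hEF : E.IsSubsystemOf F
  hT : F.StronglyClosed T
  hgen : ∀ R : Subgroup Ω, R ≤ S → ∀ a ∈ F.autGroup R, (orderOf a).Coprime p →
    ∀ x : R, (x : Ω)⁻¹ * ((a x : R) : Ω) ∈ T
  hab : ∀ A : Subgroup Ω, A ≤ T → (∀ a ∈ A, a ^ q = 1) → (∀ a ∈ A, ∀ b ∈ A, a * b = b * a) →
    ∀ φ ∈ F.Hom A, φ ∈ E.Hom A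

theorem fullyNormalized_of_subsystem {F E : Cfsg.FusionSystem S} (hEF : E.IsSubsystemOf F)
    {P : Subgroup Ω} (hP : F.IsFullyNormalized P) : E.IsFullyNormalized P :=
  ⟨hP.1, fun Q ⟨φ, hφ, hr⟩ => hP.2 Q ⟨φ, hEF P hφ, hr⟩⟩

/-- Maps on subgroups centralizing a moved small element of `T` lie in `E`, given the result for
systems with fewer maps. -/
theorem mem_of_centralize_moved {q : ℕ} {F E : Cfsg.FusionSystem S} {T : Subgroup Ω}
    (d : Data p q F E T)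
    (ih : ∀ (S' : Subgroup Ω), Finite S' → ∀ (F' E' : Cfsg.FusionSystem S') (T' : Subgroup Ω),
      Data p q F' E' T' → (graphs F').ncard < (graphs F).ncard → ∀ P, F'.Hom P ⊆ E'.Hom P)
    {x : Ω} (hxT : x ∈ T) (hxq : x ^ q = 1) (hxm : ¬ IsFixed F x) {R : Subgroup Ω} (hxR : x ∈ R)
    (hcomm : ∀ r ∈ R, r * x = x * r) {φ : R →* Ω} (hφ : φ ∈ F.Hom R) : φ ∈ E.Hom R := by
  have hRS := hom_le F hφ
  have hxS : x ∈ S := hRS hxR
  let X : Subgroup Ω := Subgroup.zpowers x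
  have hXS : X ≤ S := Subgroup.zpowers_le.2 hxS
  obtain ⟨Z, hXZ, hZn⟩ := exists_fullyNormalized F hXS
  obtain ⟨f, hf, hfr⟩ := hXZ
  have hXT : X ≤ T := Subgroup.zpowers_le.2 hxT
  have hXq : ∀ a ∈ X, a ^ q = 1 := fun a ha => by
    obtain ⟨i, rfl⟩ := Subgroup.mem_zpowers_iff.1 ha
    rw [← zpow_natCast, ← zpow_mul, mul_comm, zpow_mul, zpow_natCast, hxq, one_zpow]
  have hXc : ∀ a ∈ X, ∀ b ∈ X, a * b = b * a := fun a ha b hb => by
    obtain ⟨i, rfl⟩ := Subgroup.mem_zpowers_iff.1 ha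
    obtain ⟨j, rfl⟩ := Subgroup.mem_zpowers_iff.1 hb
    exact ((Commute.refl x).zpow_zpow i j).eq
  have hfE : f ∈ E.Hom X := d.hab X hXT hXq hXc f hf
  have hZT : Z ≤ T := hfr ▸ by rintro _ ⟨a, rfl⟩; exact d.hT.2 X hXT f hf a
  set z : Ω := f ⟨x, Subgroup.mem_zpowers x⟩ with hzdef
  have hzZ : z ∈ Z := hfr ▸ ⟨_, rfl⟩
  have hzm : ¬ IsFixed F z := by
    intro hz
    obtain ⟨f', hf', -, hf'f, -⟩ := exists_inv F hf hfr
    have h1 := hz Z f' hf' hzZ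
    rw [hf'f _ hzZ] at h1
    exact hxm (by rw [show x = z from h1]; exact hz)
  have hrecE : E.IsReceptive Z :=
    (fullyNormalized_props d.hS d.hE (fullyNormalized_of_subsystem d.hEF hZn)).2
  -- extensions to subgroups centralizing an element sent to `z`
  have hext : ∀ (W : Subgroup Ω) (w : Ω), W ≤ S → w ∈ W → (∀ r ∈ W, r * w = w * r) →
      ∀ g : Subgroup.zpowers w →* Ω, g ∈ E.Hom (Subgroup.zpowers w) → g.range = Z →
        ∃ ψ ∈ E.Hom W, ∀ (h : w ∈ W), ψ ⟨w, h⟩ = g ⟨w, Subgroup.mem_zpowers w⟩ := by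
    intro W w hWS hwW hWw g hg hgr
    have hN : W ≤ Cfsg.FusionSystem.extender S (Subgroup.zpowers w) g := by
      intro r hr
      have hrw : ∀ y ∈ Subgroup.zpowers w, r * y * r⁻¹ = y := fun y hy => by
        obtain ⟨i, rfl⟩ := Subgroup.mem_zpowers_iff.1 hy
        rw [← conj_zpow, hWw r hr, mul_inv_cancel_right]
      refine mem_extender_iff.2 ⟨hWS hr, Subgroup.centralizer_le_normalizer _ fun y hy => ?_,
        1, S.one_mem, fun y hy => ?_⟩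
      · calc y * r = r * y * r⁻¹ * r := by rw [hrw y hy]
          _ = r * y := by group
      · rw [one_mul, inv_one, mul_one]
        exact congrArg g (Subtype.ext (hrw y y.2))
    obtain ⟨ψ, hψ, hψe⟩ := exists_ext hrecE hg hgr (Subgroup.zpowers_le.2 hwW) hN
    exact ⟨ψ, hψ, fun h => hψe ⟨w, Subgroup.mem_zpowers w⟩⟩
  obtain ⟨ψ₁, hψ₁, hψ₁x⟩ := hext R x hRS hxR hcomm f hfE hfr
  -- the image of `x`
  set y : Ω := φ ⟨x, hxR⟩ with hydef
  let φX : X →* Ω := φ.comp (Subgroup.inclusion (Subgroup.zpowers_le.2 hxR))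
  have hφX : φX ∈ F.Hom X := restrict_mem F hφ _
  have hφXE : φX ∈ E.Hom X := d.hab X hXT hXq hXc φX hφX
  have hφXr : φX.range = Subgroup.zpowers y := by
    rw [MonoidHom.range_eq_map, Subgroup.zpowers_eq_closure y]
    refine le_antisymm ?_ ?_
    · rintro _ ⟨⟨a, ha⟩, -, rfl⟩
      obtain ⟨i, hi⟩ := Subgroup.mem_zpowers_iff.1 ha
      rw [← Subgroup.zpowers_eq_closure]
      refine Subgroup.mem_zpowers_iff.2 ⟨i, ?_⟩
      rw [hydef, ← map_zpow]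
      exact congrArg φ (Subtype.ext hi)
    · rw [Subgroup.closure_le, Set.singleton_subset_iff]
      exact ⟨⟨x, Subgroup.mem_zpowers x⟩, trivial, rfl⟩
  obtain ⟨φ', hφ', hφ'r, hφ'φ, -⟩ := exists_inv E hφXE hφXr
  have hmemX : ∀ a, φ' a ∈ X := fun a => hφ'r.le ⟨a, rfl⟩
  let g : Subgroup.zpowers y →* Ω := f.comp (φ'.codRestrict X hmemX)
  have hgr : g.range = Z := by
    rw [← hfr]
    refine le_antisymm ?_ ?_
    · rintro _ ⟨a, rfl⟩
      exact ⟨_, rfl⟩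
    · rintro _ ⟨a, rfl⟩
      obtain ⟨b, hb⟩ := hφ'r.ge a.2
      exact ⟨b, congrArg f (Subtype.ext hb)⟩
  let R' : Subgroup Ω := φ.range
  have hR' : ∀ r ∈ R', r * y = y * r := by
    rintro _ ⟨r, rfl⟩
    rw [hydef, ← map_mul, ← map_mul]
    exact congrArg φ (Subtype.ext (hcomm r r.2))
  obtain ⟨ψ₂, hψ₂, hψ₂y⟩ := hext R' y (range_le F hφ) ⟨_, rfl⟩ hR' g
    (E.comp_mem hφ' hfE hmemX) hgr
  have hψ₂y' : ψ₂ ⟨y, ⟨_, rfl⟩⟩ = z := by
    refine (hψ₂y _).trans ?_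
    show f _ = f _
    refine congrArg f (Subtype.ext ?_)
    show φ' ⟨y, _⟩ = x
    exact hφ'φ ⟨x, Subgroup.mem_zpowers x⟩ (Subgroup.mem_zpowers y)
  -- the map fixing `z`
  obtain ⟨ψ₁', hψ₁', hψ₁'r, hψ₁'ψ, -⟩ := exists_inv E hψ₁ rfl
  have hm1 : ∀ a, ψ₁' a ∈ R := fun a => hψ₁'r.le ⟨a, rfl⟩
  have hm2 : ∀ r : R, φ r ∈ R' := fun r => ⟨r, rfl⟩
  let χ₀ : ψ₁.range →* Ω := φ.comp (ψ₁'.codRestrict R hm1)
  have hm3 : ∀ a, χ₀ a ∈ R' := fun a => hm2 _
  let χ : ψ₁.range →* Ω := ψ₂.comp (χ₀.codRestrict R' hm3)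
  have hχF : χ ∈ F.Hom ψ₁.range :=
    F.comp_mem (F.comp_mem (d.hEF _ hψ₁') hφ hm1) (d.hEF _ hψ₂) hm3
  have hzR : z ∈ ψ₁.range := ⟨⟨x, hxR⟩, hψ₁x hxR⟩
  have hχz : χ ⟨z, hzR⟩ = z := by
    show ψ₂ ⟨φ ⟨ψ₁' ⟨z, hzR⟩, hm1 _⟩, _⟩ = z
    have h1 : ψ₁' ⟨z, hzR⟩ = x := by
      exact (congrArg ψ₁' (Subtype.ext (hψ₁x hxR).symm)).trans (hψ₁'ψ ⟨x, hxR⟩ ⟨_, rfl⟩)
    refine Eq.trans (congrArg ψ₂ (Subtype.ext ?_)) hψ₂y'
    exact congrArg φ (Subtype.ext h1)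
  have hZle : Z ≤ ψ₁.range := by
    rw [← hfr]
    rintro _ ⟨⟨a, ha⟩, rfl⟩
    obtain ⟨i, hi⟩ := Subgroup.mem_zpowers_iff.1 ha
    rw [show (⟨a, ha⟩ : X) = ⟨x, Subgroup.mem_zpowers x⟩ ^ i from Subtype.ext hi.symm, map_zpow]
    exact zpow_mem hzR i
  have hZgen : ∀ a ∈ Z, ∃ i : ℤ, a = z ^ i := by
    rw [← hfr]
    rintro _ ⟨⟨a, ha⟩, rfl⟩
    obtain ⟨i, hi⟩ := Subgroup.mem_zpowers_iff.1 ha
    exact ⟨i, by rw [show (⟨a, ha⟩ : X) = ⟨x, Subgroup.mem_zpowers x⟩ ^ i from Subtype.ext hi.symm, map_zpow]⟩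
  have hcz : ∀ a ∈ ψ₁.range, a ∈ centralizerIn S Z := by
    rintro _ ⟨r, rfl⟩
    refine ⟨hom_mem E hψ₁ r, fun b hb => ?_⟩
    obtain ⟨i, rfl⟩ := hZgen b hb
    rw [show z = ψ₁ ⟨x, hxR⟩ from (hψ₁x hxR).symm, ← map_zpow, ← map_mul, ← map_mul]
    refine congrArg ψ₁ (Subtype.ext ?_)
    exact (Commute.zpow_left (show Commute x (r : Ω) from (hcomm r r.2).symm) i).eq
  -- the centraliser system
  have hQS := hZn.1
  let S' := centralizerIn S Z
  let F' := centralizerSystem F Z hQS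
  let E' := centralizerSystem E Z hQS
  have hS'fin : Finite S' := finite_of_le (centralizerIn_le Z)
  have hZc : F.IsFullyCentralized Z := fullyCentralized_of_fullyNormalized d.hS d.hF hZn
  have hZcE : E.IsFullyCentralized Z :=
    fullyCentralized_of_fullyNormalized d.hS d.hE (fullyNormalized_of_subsystem d.hEF hZn)
  have d' : Data p q F' E' (T ⊓ S') :=
    { hS := d.hS.to_le (centralizerIn_le Z)
      hF := isSaturated_centralizerSystem d.hS d.hF hZc hQS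
      hE := isSaturated_centralizerSystem d.hS d.hE hZcE hQS
      hEF := by
        rintro P ψ ⟨h1, h2, h3, χ', h4, h5, h6⟩
        exact ⟨d.hEF _ h1, h2, h3, χ', d.hEF _ h4, h5, h6⟩
      hT := by
        refine ⟨inf_le_right, fun P hP ψ hψ a => ⟨?_, hψ.2.2.1 a⟩⟩
        exact d.hT.2 P (hP.trans inf_le_left) ψ hψ.1 a
      hgen := by
        intro P hP a ha hcop w
        refine ⟨?_, S'.mul_mem (S'.inv_mem (hP w.2)) (hP (a w).2)⟩
        refine d.hgen P (hP.trans (centralizerIn_le Z)) a ?_ hcop w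
        exact (mem_autGroup_iff F (hP.trans (centralizerIn_le Z))).2 ((mem_autGroup_iff F' hP).1 ha).1
      hab := by
        intro A hA hAq hAc ψ hψ
        obtain ⟨h1, h2, h3, χ', h4, h5, h6⟩ := hψ
        have hAS' : ∀ a ∈ A, ∀ b ∈ Z, a * b = b * a := fun a ha b hb => ((hA ha).2.2 b hb).symm
        have hAZc : ∀ a ∈ A ⊔ Z, ∀ b ∈ A ⊔ Z, a * b = b * a := by
          have hle : A ⊔ Z ≤ Subgroup.centralizer ((A ⊔ Z : Subgroup Ω) : Set Ω) := by
            rw [Subgroup.le_centralizer_iff, sup_le_iff]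
            constructor <;> rw [Subgroup.le_centralizer_iff, sup_le_iff] <;> constructor <;>
              intro a ha b hb
            · exact hAc b hb a ha
            · exact (hAS' b hb a ha)
            · exact (hAS' a ha b hb).symm
            · obtain ⟨i, rfl⟩ := hZgen b hb
              obtain ⟨j, rfl⟩ := hZgen a ha
              exact ((Commute.refl z).zpow_zpow i j).eq
          exact fun a ha b hb => (Subgroup.mem_centralizer_iff.1 (hle ha) b hb).symm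
        have hZq : ∀ b ∈ Z, b ^ q = 1 := by
          rw [← hfr]
          rintro _ ⟨a, rfl⟩
          rw [← map_pow, show a ^ q = 1 from Subtype.ext (hXq a a.2), map_one]
        have hAZq : ∀ a ∈ A ⊔ Z, a ^ q = 1 := by
          intro a ha
          let K : Subgroup Ω :=
            { carrier := {a | a ∈ A ⊔ Z ∧ a ^ q = 1}
              one_mem' := ⟨one_mem _, one_pow q⟩
              mul_mem' := fun {u v} hu hv => ⟨(A ⊔ Z).mul_mem hu.1 hv.1, by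
                rw [Commute.mul_pow (hAZc u hu.1 v hv.1), hu.2, hv.2, one_mul]⟩
              inv_mem' := fun {u} hu => ⟨(A ⊔ Z).inv_mem hu.1, by rw [inv_pow, hu.2, inv_one]⟩ }
          have hle : A ⊔ Z ≤ K := sup_le (fun b hb => ⟨Subgroup.mem_sup_left hb, hAq b hb⟩)
            fun b hb => ⟨Subgroup.mem_sup_right hb, hZq b hb⟩
          exact (hle ha).2
        have h4E := d.hab (A ⊔ Z) (sup_le (hA.trans inf_le_left) hZT) hAZq hAZc χ' h4
        exact ⟨hom_restrict E h4E le_sup_left fun a => (h5 a).symm, h2, h3, χ', h4E, h5, h6⟩ }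
  have hlt : (graphs F').ncard < (graphs F).ncard :=
    Set.ncard_lt_ncard (graphs_centralizer_ssubset hQS hzZ hzm) (graphs_finite F)
  have hχmem : ∀ a, χ a ∈ S' := by
    intro a
    refine ⟨hom_mem F hχF a, fun b hb => ?_⟩
    obtain ⟨i, rfl⟩ := hZgen b hb
    rw [← hχz, ← map_zpow, ← map_mul, ← map_mul]
    refine congrArg χ (Subtype.ext ?_)
    exact (hcz a a.2).2 _ hb
  have hsup : ψ₁.range ⊔ Z = ψ₁.range := sup_eq_left.2 hZle
  have hχ' : χ ∈ F'.Hom ψ₁.range := by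
    refine ⟨hχF, fun a ha => hcz a ha, hχmem,
      χ.comp (Subgroup.inclusion hsup.le), restrict_mem F hχF _, fun a => rfl, fun a => ?_⟩
    obtain ⟨i, hi⟩ := hZgen a a.2
    show χ ⟨(a : Ω), _⟩ = (a : Ω)
    rw [show (⟨(a : Ω), hsup.le (Subgroup.mem_sup_right a.2)⟩ : ψ₁.range) = ⟨z, hzR⟩ ^ i from
      Subtype.ext hi, map_zpow, hχz, ← hi]
  have hχE : χ ∈ E.Hom ψ₁.range := (ih S' hS'fin F' E' _ d' hlt _ hχ').1
  -- undo the extensions
  obtain ⟨ψ₂', hψ₂', -, hψ₂'ψ, -⟩ := exists_inv E hψ₂ rfl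
  have hm4 : ∀ r : R, ψ₁ r ∈ ψ₁.range := fun r => ⟨r, rfl⟩
  let θ : R →* Ω := χ.comp (ψ₁.codRestrict ψ₁.range hm4)
  have hθ : θ ∈ E.Hom R := E.comp_mem hψ₁ hχE hm4
  have hm5 : ∀ r, θ r ∈ ψ₂.range := fun r => ⟨_, rfl⟩
  refine hom_congr E (E.comp_mem hθ hψ₂' hm5) fun r => ?_
  show φ r = ψ₂' ⟨θ r, _⟩
  have h1 : θ r = ψ₂ ⟨φ r, hm2 r⟩ := by
    show ψ₂ _ = _
    refine congrArg ψ₂ (Subtype.ext ?_)
    show φ _ = φ r
    exact congrArg φ (Subtype.ext (hψ₁'ψ r (hm4 r)))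
  exact ((congrArg ψ₂' (Subtype.ext h1)).trans (hψ₂'ψ ⟨φ r, hm2 r⟩ ⟨_, rfl⟩)).symm

end CfsgLib.SmallExponentControl
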