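import Cfsg.Agent.Fusion.Alperin.SmallOrder
import Mathlib.GroupTheory.Sylow

/-!
An element conjugating a `p`-subgroup of `H` properly containing `I` into `H` lies in `H`, when `H`
contains the normalizers of all such subgroups and a Sylow `p`-subgroup.
-/

set_option autoImplicit false

namespace CfsgLib.SmallExponentControl

variable {G : Type*} [Group G] [Finite G] {p : ℕ} [hp : Fact p.Prime]

/-- If `H` contains a Sylow `p`-subgroup `P` and the normalizers of the subgroups of `P` properly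
containing the normal subgroup `I`, then it contains every `g` for which `H ∩ g H g⁻¹` has a
`p`-subgroup properly containing `I`. -/
theorem mem_of_meet (P : Sylow p G) {H I : Subgroup G} (hPH : (P : Subgroup G) ≤ H) [I.Normal]
    (hN : ∀ Q : Subgroup G, Q ≤ (P : Subgroup G) → I < Q → Subgroup.normalizer (Q : Set G) ≤ H)
    {g : G} {Q : Subgroup G} (hQ : IsPGroup p Q) (hIQ : I < Q) (hQH : Q ≤ H)
    (hQg : ∀ x ∈ Q, g⁻¹ * x * g ∈ H) : g ∈ H := by
  -- a Sylow subgroup of `H`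
  have hidx : ¬ p ∣ ((P : Subgroup G).subgroupOf H).index := fun h =>
    P.not_dvd_index (h.trans (Subgroup.relIndex_dvd_index_of_le hPH))
  let PH : Sylow p H :=
    (P.isPGroup'.comap_of_injective _ (Subgroup.subtype_injective H)).toSylow hidx
  have hconj : ∀ T : Subgroup G, IsPGroup p T → T ≤ H →
      ∃ h ∈ H, ∀ x ∈ T, h * x * h⁻¹ ∈ (P : Subgroup G) := by
    intro T hT hTH
    obtain ⟨U, hU⟩ := (hT.comap_of_injective _ (Subgroup.subtype_injective H)).exists_le_sylow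
    obtain ⟨h, hh⟩ := MulAction.exists_smul_eq H U PH
    refine ⟨h, h.2, fun x hx => ?_⟩
    have hmem : h * (⟨x, hTH hx⟩ : H) * h⁻¹ ∈ (PH : Subgroup H) := by
      rw [← hh, Sylow.coe_subgroup_smul]
      exact ⟨_, hU hx, rfl⟩
    exact hmem
  have hconjI : ∀ (c : G) (y : G), c * y * c⁻¹ ∈ I ↔ y ∈ I := fun c y =>
    ⟨fun h => by simpa [mul_assoc] using (inferInstance : I.Normal).conj_mem _ h c⁻¹,
      fun h => (inferInstance : I.Normal).conj_mem y h c⟩
  have hNH : ∀ T : Subgroup G, IsPGroup p T → T ≤ H → I < T →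
      Subgroup.normalizer (T : Set G) ≤ H := by
    intro T hT hTH hIT n hn
    obtain ⟨h, hh, hhT⟩ := hconj T hT hTH
    let T' := T.map (MulAut.conj h).toMonoidHom
    have hlt : I < T' := by
      obtain ⟨t, ht, htI⟩ := Set.exists_of_ssubset hIT
      refine lt_of_le_of_ne (fun y hy => ?_) fun e => htI ?_
      · exact ⟨h⁻¹ * y * h, hIT.le (by simpa [mul_assoc] using (hconjI h⁻¹ y).2 hy),
          by simp [mul_assoc]⟩
      · exact (hconjI h t).1 (e ▸ ⟨t, ht, rfl⟩)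
    have hnT : h * n * h⁻¹ ∈ Subgroup.normalizer (T' : Set G) := by
      rw [show Subgroup.normalizer (T' : Set G) =
        (Subgroup.normalizer (T : Set G)).map (MulAut.conj h).toMonoidHom from
        (Subgroup.map_equiv_normalizer_eq T (MulAut.conj h)).symm]
      exact ⟨n, hn, rfl⟩
    have := hN T' (fun y ⟨t, ht, e⟩ => e ▸ hhT t ht) hlt hnT
    rw [show n = h⁻¹ * (h * n * h⁻¹) * h by group]
    exact H.mul_mem (H.mul_mem (H.inv_mem hh) this) hh
  -- enlarge `Q`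
  obtain ⟨M, ⟨hMp, hIM, hMH, hMg⟩, hmax⟩ := Set.Finite.exists_maximal
    (Set.toFinite {M : Subgroup G | IsPGroup p M ∧ I < M ∧ M ≤ H ∧ ∀ x ∈ M, g⁻¹ * x * g ∈ H})
    ⟨Q, hQ, hIQ, hQH, hQg⟩
  let M' := M.map (MulAut.conj g⁻¹).toMonoidHom
  have hM'H : M' ≤ H := by
    rintro _ ⟨x, hx, rfl⟩
    simpa using hMg x hx
  obtain ⟨h, hh, hhM⟩ := hconj M' (hMp.map _) hM'H
  -- the image of `M` in `P` is all of `P`
  let c : G := h * g⁻¹
  have hcM : M.map (MulAut.conj c).toMonoidHom ≤ (P : Subgroup G) := by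
    rintro _ ⟨x, hx, rfl⟩
    have := hhM _ ⟨x, hx, rfl⟩
    simpa [c, mul_assoc] using this
  let P' : Subgroup G := (P : Subgroup G).map (MulAut.conj c⁻¹).toMonoidHom
  have hMP' : M ≤ P' := fun x hx => ⟨_, hcM ⟨x, hx, rfl⟩, by simp [mul_assoc]⟩
  have hP'g : ∀ x ∈ P', g⁻¹ * x * g ∈ H := by
    rintro _ ⟨y, hy, rfl⟩
    have : h⁻¹ * y * h ∈ H := H.mul_mem (H.mul_mem (H.inv_mem hh) (hPH hy)) hh
    simpa [c, mul_assoc] using this
  have hP'p : IsPGroup p P' := P.isPGroup'.map _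
  have hMeq : M = P' := by
    by_contra hne
    obtain ⟨x, ⟨hxP, hxN⟩, hxM⟩ : ∃ x, x ∈ P' ⊓ Subgroup.normalizer (M : Set G) ∧ x ∉ M := by
      obtain ⟨x, hx, hxM⟩ := CfsgLib.Fusion.Alperin.exists_normalizing_not_mem (S := P') (P := M)
        hP'p hMP' hne
      exact ⟨x, hx, hxM⟩
    have hle : M ⊔ Subgroup.zpowers x ≤ P' := sup_le hMP' (Subgroup.zpowers_le.2 hxP)
    have hxH : x ∈ H := hNH M hMp hMH hIM hxN
    have := hmax ⟨hP'p.to_le hle, lt_of_lt_of_le hIM le_sup_left,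
      sup_le hMH (Subgroup.zpowers_le.2 hxH), fun y hy => hP'g y (hle hy)⟩ le_sup_left
    exact hxM (this (Subgroup.mem_sup_right (Subgroup.mem_zpowers x)))
  -- conjugate back into `P` inside `H`
  obtain ⟨k, hk, hkM⟩ := hconj M hMp hMH
  let d : G := k * c⁻¹
  have hd : d ∈ Subgroup.normalizer ((P : Subgroup G) : Set G) := by
    refine Subgroup.mem_normalizer_fintype fun y hy => ?_
    have := hkM (c⁻¹ * y * c) (hMeq ▸ ⟨y, hy, by simp [mul_assoc]⟩)
    show k * c⁻¹ * y * (k * c⁻¹)⁻¹ ∈ (P : Subgroup G)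
    rwa [show k * c⁻¹ * y * (k * c⁻¹)⁻¹ = k * (c⁻¹ * y * c) * k⁻¹ by group]
  have hIP : I < (P : Subgroup G) := by
    obtain ⟨t, ht, htI⟩ := Set.exists_of_ssubset hIM
    refine lt_of_le_of_ne (fun y hy => ?_) fun e => htI ?_
    · have := hcM ⟨c⁻¹ * y * c, hIM.le (by simpa using (hconjI c⁻¹ y).2 hy), rfl⟩
      simpa [mul_assoc] using this
    · exact (hconjI c t).1 (e ▸ hcM ⟨t, ht, rfl⟩)
  have hdH := hN P le_rfl hIP hd
  rw [show g = k⁻¹ * d * h by simp [d, c, mul_assoc]]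
  exact H.mul_mem (H.mul_mem (H.inv_mem hk) hdH) hh

end CfsgLib.SmallExponentControl
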